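import Groth.Prelude.Def_ExtPow2
import Groth.Prelude.Def_OmAff
import Groth.Agent.Lib.Kaehler.ToSect
import Groth.Agent.Lib.Kaehler.LocFree
import Groth.Agent.Lib.Modules.TensorAffine
import Groth.Agent.Lib.GrassGen.ExtPowFree
import Groth.Agent.Lib.TensorMod.QCohInv
import Mathlib.RingTheory.Derivation.Basic

/-!
# Evaluating tensor powers of differential forms at points with derivations

For a `k`-scheme `f : X ⟶ Spec k`, an affine open `U`, a ring map `χ : Γ(X, U) →+* R` over `k` and
derivations of `R`, a section of `(Ω^i)^{⊗ m}` over `U` gives an element of `R`: the product of the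
determinants of its factors evaluated at the derivations.
-/

set_option autoImplicit false
set_option linter.style.haveILetI false
universe u

open CategoryTheory CategoryTheory.Limits AlgebraicGeometry Opposite TopologicalSpace
open scoped TensorProduct

namespace Groth.Agent.Lib.REqForms33

open Groth.Agent.Lib Groth.Agent.Lib.Modules
open Groth.Agent.Lib.TensorMod.Dual (rs rf rs_smul)

noncomputable section

variable {k : Type u} [Field k] {X : Scheme.{u}} (f : X ⟶ Spec (CommRingCat.of k))

theorem le_pre (U : X.Opens) : U ≤ f ⁻¹ᵁ (⊤ : (Spec (CommRingCat.of k)).Opens) := le_top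

/-- The constants of an open. -/
def str (U : X.Opens) : k →+* Γ(X, U) :=
  (f.appLE ⊤ U (le_pre f U)).hom.comp (Scheme.ΓSpecIso (CommRingCat.of k)).inv.hom

theorem res_str {U V : X.Opens} (h : V ≤ U) (c : k) :
    X.presheaf.map (homOfLE h).op (str f U c) = str f V c := by
  exact congr($(f.appLE_map (le_pre f U) (homOfLE h).op) _)

variable {f}

/-- A ring map out of the sections of an open, over `k`. -/
structure Chi (f : X ⟶ Spec (CommRingCat.of k)) (U : X.Opens) (R : Type u) [CommRing R] [Algebra k R] where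
  /-- The ring map. -/
  hom : Γ(X, U) →+* R
  hom_str : ∀ c : k, hom (str f U c) = algebraMap k R c

variable {U V : X.Opens} {R R' : Type u} [CommRing R] [Algebra k R] [CommRing R'] [Algebra k R']

/-- Composition with a map of `k`-algebras. -/
def Chi.map (χ : Chi f U R) (j : R →ₐ[k] R') : Chi f U R' :=
  ⟨j.toRingHom.comp χ.hom, fun c => by
    show j (χ.hom _) = _
    rw [χ.hom_str, AlgHom.commutes]⟩

/-- Composition with a restriction. -/
def Chi.res (χ : Chi f V R) (h : V ≤ U) : Chi f U R :=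
  ⟨χ.hom.comp (X.presheaf.map (homOfLE h).op).hom, fun c => by
    show χ.hom (X.presheaf.map (homOfLE h).op (str f U c)) = _
    rw [res_str, χ.hom_str]⟩

section Theta

variable [QuasiSeparated f] (hU : IsAffineOpen U) (χ : Chi f U R)

include hU in
theorem exists_theta (δ : Derivation k R R) :
    ∃ θ : Γ(Omega.sheaf f, U) →ₛₗ[χ.hom] R, ∀ b : Γ(X, U), θ (OmegaSh.dSect f U b) = δ (χ.hom b) := by
  letI : Module Γ(X, U) R := Module.compHom R χ.hom
  let M : ModuleCat.{u} Γ(X, U) := ModuleCat.of Γ(X, U) R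
  let D : M.Derivation (f.appLE ⊤ U (le_pre f U)) :=
    ModuleCat.Derivation.mk (fun b => (δ (χ.hom b) : R))
      (fun b b' => by show δ (χ.hom (b + b')) = _; rw [map_add, map_add])
      (fun b b' => by
        show δ (χ.hom (b * b')) = χ.hom b * δ (χ.hom b') + χ.hom b' * δ (χ.hom b)
        rw [map_mul, Derivation.leibniz, smul_eq_mul, smul_eq_mul])
      (fun c => by
        show δ (χ.hom (f.appLE ⊤ U (le_pre f U) c)) = 0
        have : c = (Scheme.ΓSpecIso (CommRingCat.of k)).inv ((Scheme.ΓSpecIso (CommRingCat.of k)).hom c) := by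
          rw [← ConcreteCategory.comp_apply, Iso.hom_inv_id]
          rfl
        rw [this]
        show δ (χ.hom (str f U _)) = 0
        rw [χ.hom_str, Derivation.map_algebraMap])
  haveI := Kaehler.ToSect.isIso_toSect f hU (isAffineOpen_top (Spec (CommRingCat.of k))) (le_pre f U)
  let l : OmAff.sectMod (Omega.sheaf f) U ⟶ M := inv (OmAff.toSect f ⊤ U (le_pre f U)) ≫ D.desc
  refine ⟨{ toFun := fun x => l x, map_add' := fun x y => map_add l.hom x y,
            map_smul' := fun a x => l.hom.map_smul a x }, fun b => ?_⟩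
  show l (OmegaSh.dSect f U b) = δ (χ.hom b)
  rw [← OmAff.toSect_d f ⊤ U (le_pre f U) b]
  show (OmAff.toSect f ⊤ U (le_pre f U) ≫ l) (CommRingCat.KaehlerDifferential.d b) = _
  rw [IsIso.hom_inv_id_assoc]
  exact D.desc_d b

/-- The functional of a derivation. -/
def theta (δ : Derivation k R R) : Γ(Omega.sheaf f, U) →ₛₗ[χ.hom] R :=
  (exists_theta hU χ δ).choose

theorem theta_d (δ : Derivation k R R) (b : Γ(X, U)) :
    theta hU χ δ (OmegaSh.dSect f U b) = δ (χ.hom b) :=
  (exists_theta hU χ δ).choose_spec b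

include hU in
theorem theta_ext (θ θ' : Γ(Omega.sheaf f, U) →ₛₗ[χ.hom] R)
    (h : ∀ b, θ (OmegaSh.dSect f U b) = θ' (OmegaSh.dSect f U b)) (x : Γ(Omega.sheaf f, U)) : θ x = θ' x := by
  letI : Module Γ(X, U) R := Module.compHom R χ.hom
  let M : ModuleCat.{u} Γ(X, U) := ModuleCat.of Γ(X, U) R
  haveI := Kaehler.ToSect.isIso_toSect f hU (isAffineOpen_top (Spec (CommRingCat.of k))) (le_pre f U)
  let l : (Γ(Omega.sheaf f, U) →ₛₗ[χ.hom] R) → (OmAff.sectMod (Omega.sheaf f) U ⟶ M) := fun θ =>
    ModuleCat.ofHom (X := Γ(Omega.sheaf f, U)) (Y := R)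
      { toFun := fun x => θ x, map_add' := fun x y => map_add θ x y,
        map_smul' := fun a x => θ.map_smulₛₗ a x }
  have : l θ = l θ' := (cancel_epi (OmAff.toSect f ⊤ U (le_pre f U))).1
    (CommRingCat.KaehlerDifferential.ext fun b => by
      show l θ (OmAff.toSect f ⊤ U (le_pre f U) _) = l θ' (OmAff.toSect f ⊤ U (le_pre f U) _)
      rw [OmAff.toSect_d]
      exact h b)
  exact congr($this x)

theorem theta_res (hV : IsAffineOpen V) (hle : V ≤ U) (χV : Chi f V R) (δ : Derivation k R R)
    (x : Γ(Omega.sheaf f, U)) :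
    theta hU (χV.res hle) δ x = theta hV χV δ (rs (Omega.sheaf f) hle x) := by
  let θ' : Γ(Omega.sheaf f, U) →ₛₗ[(χV.res hle).hom] R :=
    { toFun := fun x => theta hV χV δ (rs (Omega.sheaf f) hle x)
      map_add' := fun x y => by
        rw [show rs (Omega.sheaf f) hle (x + y) = rs _ hle x + rs _ hle y from map_add _ _ _, map_add]
      map_smul' := fun a x => by
        rw [rs_smul, LinearMap.map_smulₛₗ]
        rfl }
  refine theta_ext hU _ _ θ' (fun b => ?_) x
  rw [theta_d]
  show δ ((χV.res hle).hom b) = theta hV χV δ (rs (Omega.sheaf f) hle (OmegaSh.dSect f U b))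
  exact (theta_d hV χV δ _).symm.trans (congrArg (theta hV χV δ) (OmegaSh.dSect_map f hle b))

include hU in
theorem theta_map (j : R →ₐ[k] R') (δ : Derivation k R R) (δ' : Derivation k R' R')
    (hj : ∀ r, δ' (j r) = j (δ r)) (x : Γ(Omega.sheaf f, U)) :
    theta hU (χ.map j) δ' x = j (theta hU χ δ x) := by
  let θ' : Γ(Omega.sheaf f, U) →ₛₗ[(χ.map j).hom] R' :=
    { toFun := fun x => j (theta hU χ δ x)
      map_add' := fun x y => by rw [map_add, map_add]
      map_smul' := fun a x => by
        rw [LinearMap.map_smulₛₗ, smul_eq_mul, map_mul]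
        rfl }
  refine theta_ext hU _ _ θ' (fun b => ?_) x
  show _ = j (theta hU χ δ _)
  rw [theta_d, theta_d]
  exact hj _

end Theta

section Wedge

variable [QuasiSeparated f] (hU : IsAffineOpen U) (χ : Chi f U R) {i : ℕ} (D : Fin i → Derivation k R R)

/-- The matrix of values at the derivations. -/
def valMat (e : Fin i → Γ(Omega.sheaf f, U)) : Matrix (Fin i) (Fin i) R :=
  Matrix.of fun a b => theta hU χ (D b) (e a)

include hU χ D in
theorem exists_wedge :
    ∃ ω : ↥(⋀[Γ(X, U)]^i Γ(Omega.sheaf f, U)) →ₛₗ[χ.hom] R,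
      ∀ e, ω (exteriorPower.ιMulti _ i e) = (valMat hU χ D e).det := by
  letI : Algebra Γ(X, U) R := χ.hom.toAlgebra
  let θv : Γ(Omega.sheaf f, U) →ₗ[Γ(X, U)] (Fin i → R) :=
    { toFun := fun x b => theta hU χ (D b) x
      map_add' := fun x y => funext fun b => map_add _ x y
      map_smul' := fun a x => funext fun b => (theta hU χ (D b)).map_smulₛₗ a x }
  let A : Γ(Omega.sheaf f, U) [⋀^Fin i]→ₗ[Γ(X, U)] R :=
    AlternatingMap.compLinearMap
      { (Matrix.detRowAlternating (R := R) (n := Fin i)).toMultilinearMap.restrictScalars Γ(X, U) with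
        map_eq_zero_of_eq' := fun v a b h hab => (Matrix.detRowAlternating (R := R) (n := Fin i)).map_eq_zero_of_eq v h hab }
      θv
  let l := exteriorPower.alternatingMapLinearEquiv A
  refine ⟨{ toFun := fun x => l x, map_add' := fun x y => map_add l x y,
            map_smul' := fun a x => l.map_smul a x }, fun e => ?_⟩
  show l _ = _
  rw [exteriorPower.alternatingMapLinearEquiv_apply_ιMulti]
  rfl

/-- The functional of a tuple of derivations on the exterior power. -/
def wedge : ↥(⋀[Γ(X, U)]^i Γ(Omega.sheaf f, U)) →ₛₗ[χ.hom] R := (exists_wedge hU χ D).choose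

theorem wedge_ιMulti (e : Fin i → Γ(Omega.sheaf f, U)) :
    wedge hU χ D (exteriorPower.ιMulti _ i e) = (valMat hU χ D e).det :=
  (exists_wedge hU χ D).choose_spec e

end Wedge

variable (f) in
/-- The data of an exterior power of the differentials. -/
structure Setup (i : ℕ) (L : X.Modules) where
  qs : QuasiSeparated f
  locFree : FlatMod.IsFinLocFree L
  equiv : ∀ U : X.affineOpens, (L.val.obj (op U.1)) ≃ₗ[Γ(X, U.1)] ↥(⋀[Γ(X, U.1)]^i Γ(Omega.sheaf f, U.1))
  equiv_res : ∀ (U V : X.affineOpens) (h : V.1 ≤ U.1) (e : Fin i → Γ(Omega.sheaf f, U.1)),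
      rs L h ((equiv U).symm (exteriorPower.ιMulti _ i e)) =
        (equiv V).symm (exteriorPower.ιMulti _ i fun j => rs (Omega.sheaf f) h (e j))

theorem nonempty_setup [QuasiSeparated f] [Smooth f] {i : ℕ} {L : X.Modules}
    (hL : ExtPow.IsExtPow i (Omega.sheaf f) L) : Nonempty (Setup f i L) := by
  have hE : FlatMod.IsFinLocFree (Omega.sheaf f) :=
    Kaehler.LocFree.isFinLocFree_of_smooth (Kaehler.DOmega.isUniversal_dOmega f)
  have hl := GrassGen.ExtPowFree.isFinLocFree hE hL
  obtain ⟨φ, hφ⟩ := hL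
  exact ⟨⟨inferInstance, hl, φ, hφ⟩⟩

variable {i : ℕ} {L : X.Modules} (S : Setup f i L)

include S in
theorem qc_pow (m : ℕ) : (CohB1.tensorPow L m).IsQuasicoherent := by
  haveI : L.IsQuasicoherent := TensorMod.QCohInv.isQCoh_of_isFinLocFree S.locFree
  induction m with
  | zero => exact TensorMod.QCohInv.isQCoh_structureModule X
  | succ n ih => exact TensorMod.TensorQCoh.isQCoh_tensorMod _ _

/-- Sections over an affine open of the next tensor power. -/
def powEquiv (U : X.affineOpens) (m : ℕ) :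
    Γ(CohB1.tensorPow L m, U.1) ⊗[Γ(X, U.1)] Γ(L, U.1) ≃ₗ[Γ(X, U.1)] Γ(CohB1.tensorPow L (m + 1), U.1) :=
  haveI := qc_pow S m
  haveI : L.IsQuasicoherent := TensorMod.QCohInv.isQCoh_of_isFinLocFree S.locFree
  LinearEquiv.ofBijective (TensorAffine.gamma (CohB1.tensorPow L m) L U.1)
    (TensorAffine.bijective_gamma U.2)

theorem powEquiv_tmul (U : X.affineOpens) (m : ℕ) (x : Γ(CohB1.tensorPow L m, U.1)) (y : Γ(L, U.1)) :
    powEquiv S U m (x ⊗ₜ y) = TensorSec.tens x y := rfl

/-- The functional of derivations on the exterior power sheaf. -/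
def form (U : X.affineOpens) (χ : Chi f U.1 R) (D : Fin i → Derivation k R R) : Γ(L, U.1) →ₛₗ[χ.hom] R :=
  haveI := S.qs
  { toFun := fun y => wedge U.2 χ D (S.equiv U y)
    map_add' := fun x y => by
      rw [show S.equiv U (x + y) = S.equiv U x + S.equiv U y from map_add _ _ _, map_add]
    map_smul' := fun a y => by
      rw [show S.equiv U (a • y) = a • S.equiv U y from map_smul _ _ _, LinearMap.map_smulₛₗ] }

/-- The value of a section of a tensor power. -/
def ev (U : X.affineOpens) (χ : Chi f U.1 R) :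
    ∀ m : ℕ, (ℕ → Fin i → Derivation k R R) → (Γ(CohB1.tensorPow L m, U.1) →ₛₗ[χ.hom] R)
  | 0, _ =>
    { toFun := fun x => χ.hom x
      map_add' := fun x y => map_add χ.hom x y
      map_smul' := fun a x => map_mul χ.hom a x }
  | m + 1, δ =>
    letI : Algebra Γ(X, U.1) R := χ.hom.toAlgebra
    let x' : Γ(CohB1.tensorPow L m, U.1) →ₗ[Γ(X, U.1)] R :=
      { toFun := fun x => ev U χ m δ x
        map_add' := fun x y => map_add (ev U χ m δ) x y
        map_smul' := fun a x => (ev U χ m δ).map_smulₛₗ a x }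
    let y' : Γ(L, U.1) →ₗ[Γ(X, U.1)] R :=
      { toFun := fun y => form S U χ (δ m) y
        map_add' := fun x y => map_add (form S U χ (δ m)) x y
        map_smul' := fun a y => (form S U χ (δ m)).map_smulₛₗ a y }
    let l := (LinearMap.mul' Γ(X, U.1) R).comp ((TensorProduct.map x' y').comp (powEquiv S U m).symm.toLinearMap)
    { toFun := fun s => l s
      map_add' := fun x y => map_add l x y
      map_smul' := fun a x => l.map_smul a x }

theorem ev_zero (U : X.affineOpens) (χ : Chi f U.1 R) (δ : ℕ → Fin i → Derivation k R R) (x : Γ(X, U.1)) :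
    ev S U χ 0 δ x = χ.hom x := rfl

theorem ev_tmul (U : X.affineOpens) (χ : Chi f U.1 R) (m : ℕ) (δ : ℕ → Fin i → Derivation k R R)
    (x : Γ(CohB1.tensorPow L m, U.1)) (y : Γ(L, U.1)) :
    ev S U χ (m + 1) δ (powEquiv S U m (x ⊗ₜ y)) = ev S U χ m δ x * form S U χ (δ m) y := by
  letI : Algebra Γ(X, U.1) R := χ.hom.toAlgebra
  show LinearMap.mul' Γ(X, U.1) R (TensorProduct.map _ _ ((powEquiv S U m).symm (powEquiv S U m (x ⊗ₜ y)))) = _
  rw [LinearEquiv.symm_apply_apply]
  rfl

theorem form_ext (U : X.affineOpens) {ρ : Γ(X, U.1) →+* R} (a b : Γ(L, U.1) →ₛₗ[ρ] R)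
    (h : ∀ e, a ((S.equiv U).symm (exteriorPower.ιMulti _ i e)) = b ((S.equiv U).symm (exteriorPower.ιMulti _ i e)))
    (y : Γ(L, U.1)) : a y = b y := by
  letI : Algebra Γ(X, U.1) R := ρ.toAlgebra
  let al : (Γ(L, U.1) →ₛₗ[ρ] R) → (↥(⋀[Γ(X, U.1)]^i Γ(Omega.sheaf f, U.1)) →ₗ[Γ(X, U.1)] R) := fun a =>
    { toFun := fun z => a ((S.equiv U).symm z)
      map_add' := fun x y => (congrArg a (map_add (S.equiv U).symm x y)).trans (map_add a _ _)
      map_smul' := fun c x => (congrArg a (map_smul (S.equiv U).symm c x)).trans (a.map_smulₛₗ c _) }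
  have : al a = al b := exteriorPower.linearMap_ext (AlternatingMap.ext h)
  have := congr($this (S.equiv U y))
  rwa [show al a (S.equiv U y) = a y from congrArg a ((S.equiv U).symm_apply_apply y),
    show al b (S.equiv U y) = b y from congrArg b ((S.equiv U).symm_apply_apply y)] at this

theorem form_res (U V : X.affineOpens) (hle : V.1 ≤ U.1) (χV : Chi f V.1 R) (D : Fin i → Derivation k R R)
    (y : Γ(L, U.1)) : form S U (χV.res hle) D y = form S V χV D (rs L hle y) := by
  haveI := S.qs
  let b : Γ(L, U.1) →ₛₗ[(χV.res hle).hom] R :=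
    { toFun := fun y => form S V χV D (rs L hle y)
      map_add' := fun x y => by
        rw [show rs L hle (x + y) = rs L hle x + rs L hle y from map_add _ _ _, map_add]
      map_smul' := fun a x => by rw [rs_smul, LinearMap.map_smulₛₗ]; rfl }
  refine form_ext S U _ b (fun e => ?_) y
  show wedge U.2 _ D (S.equiv U ((S.equiv U).symm _)) =
    wedge V.2 χV D (S.equiv V (rs L hle ((S.equiv U).symm _)))
  rw [S.equiv_res, LinearEquiv.apply_symm_apply, LinearEquiv.apply_symm_apply]
  refine (wedge_ιMulti U.2 _ D e).trans (Eq.trans (congrArg Matrix.det ?_) (wedge_ιMulti V.2 χV D _).symm)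
  ext a c
  exact theta_res U.2 V.2 hle χV (D c) (e a)

theorem form_map (U : X.affineOpens) (χ : Chi f U.1 R) (j : R →ₐ[k] R') (D : Fin i → Derivation k R R)
    (D' : Fin i → Derivation k R' R') (hj : ∀ a r, D' a (j r) = j (D a r)) (y : Γ(L, U.1)) :
    form S U (χ.map j) D' y = j (form S U χ D y) := by
  haveI := S.qs
  let b : Γ(L, U.1) →ₛₗ[(χ.map j).hom] R' :=
    { toFun := fun y => j (form S U χ D y)
      map_add' := fun x y => by rw [map_add, map_add]
      map_smul' := fun a x => by rw [LinearMap.map_smulₛₗ, smul_eq_mul, map_mul]; rfl }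
  refine form_ext S U _ b (fun e => ?_) y
  show wedge U.2 _ D' (S.equiv U ((S.equiv U).symm _)) = j (wedge U.2 χ D (S.equiv U ((S.equiv U).symm _)))
  rw [LinearEquiv.apply_symm_apply]
  refine (wedge_ιMulti U.2 _ D' e).trans (Eq.trans (Eq.trans (congrArg Matrix.det ?_) (AlgHom.map_det j (valMat U.2 χ D e)).symm)
    (congrArg j (wedge_ιMulti U.2 χ D e).symm))
  ext a c
  exact theta_map U.2 χ j (D c) (D' c) (hj c) (e a)

theorem rs_powEquiv (U V : X.affineOpens) (hle : V.1 ≤ U.1) (m : ℕ) (x : Γ(CohB1.tensorPow L m, U.1))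
    (y : Γ(L, U.1)) :
    rs (CohB1.tensorPow L (m + 1)) hle (powEquiv S U m (x ⊗ₜ y)) =
      powEquiv S V m (rs (CohB1.tensorPow L m) hle x ⊗ₜ rs L hle y) :=
  TensorSec.rs_tens hle x y

theorem ev_res (U V : X.affineOpens) (hle : V.1 ≤ U.1) (χV : Chi f V.1 R) (m : ℕ)
    (δ : ℕ → Fin i → Derivation k R R) (s : Γ(CohB1.tensorPow L m, U.1)) :
    ev S U (χV.res hle) m δ s = ev S V χV m δ (rs (CohB1.tensorPow L m) hle s) := by
  induction m with
  | zero => rfl
  | succ m ih =>
    obtain ⟨z, rfl⟩ := (powEquiv S U m).surjective s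
    induction z using TensorProduct.induction_on with
    | zero =>
      rw [map_zero, map_zero]
      exact ((congrArg _ (map_zero _)).trans (map_zero _)).symm
    | tmul x y => rw [ev_tmul, rs_powEquiv, ev_tmul, ih, form_res S U V hle]
    | add a b ha hb =>
      rw [map_add, map_add, ha, hb, ← map_add]
      exact congrArg _ (map_add _ _ _).symm

theorem ev_map (U : X.affineOpens) (χ : Chi f U.1 R) (j : R →ₐ[k] R') (m : ℕ)
    (δ : ℕ → Fin i → Derivation k R R) (δ' : ℕ → Fin i → Derivation k R' R')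
    (hj : ∀ l a r, δ' l a (j r) = j (δ l a r)) (s : Γ(CohB1.tensorPow L m, U.1)) :
    ev S U (χ.map j) m δ' s = j (ev S U χ m δ s) := by
  induction m with
  | zero => rfl
  | succ m ih =>
    obtain ⟨z, rfl⟩ := (powEquiv S U m).surjective s
    induction z using TensorProduct.induction_on with
    | zero => simp only [map_zero]
    | tmul x y => rw [ev_tmul, ev_tmul, ih, form_map S U χ j _ _ (hj m), map_mul]
    | add a b ha hb => simp only [map_add, ha, hb]

theorem ev_eq_zero_of_derivation_zero (U : X.affineOpens) (χ : Chi f U.1 R) (hi : 0 < i) (m : ℕ)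
    (s : Γ(CohB1.tensorPow L (m + 1), U.1)) :
    ev S U χ (m + 1) (fun _ _ => (0 : Derivation k R R)) s = 0 := by
  haveI := S.qs
  obtain ⟨z, rfl⟩ := (powEquiv S U m).surjective s
  induction z using TensorProduct.induction_on with
  | zero => simp only [map_zero]
  | tmul x y =>
    rw [ev_tmul]
    suffices h : form S U χ (fun _ => (0 : Derivation k R R)) y = 0 by rw [h, mul_zero]
    refine form_ext S U _ 0 (fun e => ?_) y
    show wedge U.2 _ _ (S.equiv U ((S.equiv U).symm _)) = 0
    rw [LinearEquiv.apply_symm_apply]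
    refine (wedge_ιMulti U.2 _ _ e).trans (Matrix.det_eq_zero_of_row_eq_zero ⟨0, hi⟩ fun c => ?_)
    exact theta_ext U.2 χ (theta U.2 χ 0) 0 (fun b => (theta_d U.2 χ 0 b).trans rfl) _
  | add a b ha hb => simp only [map_add, ha, hb, add_zero]

end

end Groth.Agent.Lib.REqForms33
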