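import Groth.Agent.Lib.REqForms33.Value
import Groth.Agent.Lib.H75.REq.Proj
import Groth.Agent.Lib.H75.REq.Extend
import Mathlib.FieldTheory.RatFunc.Valuation
import Mathlib.RingTheory.Derivation.MapCoeffs
import Mathlib.RingTheory.Valuation.ValuationSubring

/-!
# Values of forms are constant along R-links
-/

set_option autoImplicit false
set_option linter.style.haveILetI false
universe u

open CategoryTheory CategoryTheory.Limits AlgebraicGeometry Opposite TopologicalSpace
open scoped Polynomial Classical

namespace Groth.Agent.Lib.REqForms33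

open Groth.Agent.Lib

noncomputable section

variable {k : Type u} [Field k] {K : Type u} [Field K] [Algebra k K]

/-- The coefficientwise derivation of polynomials. -/
def polyDer (δ : Derivation k K K) : Derivation k K[X] K[X] :=
  PolynomialModule.equivPolynomialSelf.compDer δ.mapCoeffs

theorem coeff_polyDer (δ : Derivation k K K) (p : K[X]) (n : ℕ) :
    (polyDer δ p).coeff n = δ (p.coeff n) := rfl

theorem natDegree_polyDer_le (δ : Derivation k K K) (p : K[X]) : (polyDer δ p).natDegree ≤ p.natDegree :=
  Polynomial.natDegree_le_iff_coeff_eq_zero.2 fun n hn => by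
    rw [coeff_polyDer, Polynomial.coeff_eq_zero_of_natDegree_lt hn, map_zero]

theorem eval_polyDer (δ : Derivation k K K) (c : K) (hc : δ c = 0) (p : K[X]) :
    δ (p.eval c) = (polyDer δ p).eval c := by
  induction p using Polynomial.induction_on' with
  | add p q hp hq => simp only [Polynomial.eval_add, map_add, hp, hq]
  | monomial n a =>
    have h : polyDer δ (Polynomial.monomial n a) = Polynomial.monomial n (δ a) := by
      ext l
      rw [coeff_polyDer, Polynomial.coeff_monomial, Polynomial.coeff_monomial]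
      split_ifs <;> simp
    rw [h, Polynomial.eval_monomial, Polynomial.eval_monomial, Derivation.leibniz, Derivation.leibniz_pow, hc]
    simp [mul_comm]

theorem algebraMap_eq_comp : algebraMap k K[X] = (Polynomial.C : K →+* K[X]).comp (algebraMap k K) :=
  IsScalarTower.algebraMap_eq k K K[X]

theorem infty_polyDer (δ : Derivation k K K) (p : K[X]) :
    RatFunc.inftyValuation K (algebraMap K[X] (RatFunc K) (polyDer δ p)) ≤
      RatFunc.inftyValuation K (algebraMap K[X] (RatFunc K) p) := by
  by_cases h : polyDer δ p = 0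
  · simp [h]
  · have hp : p ≠ 0 := fun h0 => h (by rw [h0, map_zero])
    rw [RatFunc.inftyValuation_apply, RatFunc.inftyValuation_apply, RatFunc.inftyValuation.polynomial _ h,
      RatFunc.inftyValuation.polynomial _ hp]
    exact WithZero.exp_le_exp.2 (by exact_mod_cast natDegree_polyDer_le δ p)

theorem infty_derivation (δ : Derivation k K K) (D : Derivation k (RatFunc K) (RatFunc K))
    (hD : ∀ p : K[X], D (algebraMap K[X] (RatFunc K) p) = algebraMap K[X] (RatFunc K) (polyDer δ p))
    {x : RatFunc K} (hx : RatFunc.inftyValuation K x ≤ 1) : RatFunc.inftyValuation K (D x) ≤ 1 := by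
  set v := RatFunc.inftyValuation K
  obtain ⟨⟨p, q⟩, hpq⟩ := IsLocalization.surj (nonZeroDivisors K[X]) x
  simp only at hpq
  have h := congrArg D hpq
  rw [Derivation.leibniz, smul_eq_mul, smul_eq_mul, hD, hD] at h
  have hq0 : algebraMap K[X] (RatFunc K) (q : K[X]) ≠ 0 := by
    rw [ne_eq, IsFractionRing.to_map_eq_zero_iff]
    exact nonZeroDivisors.coe_ne_zero q
  have hvq : v (algebraMap K[X] (RatFunc K) (q : K[X])) ≠ 0 := (Valuation.ne_zero_iff v).2 hq0
  have hmul : v (D x) * v (algebraMap K[X] (RatFunc K) (q : K[X])) ≤ 1 * v (algebraMap K[X] (RatFunc K) (q : K[X])) := by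
    rw [one_mul, ← map_mul, mul_comm, show algebraMap K[X] (RatFunc K) (q : K[X]) * D x =
      algebraMap K[X] (RatFunc K) (polyDer δ p) - x * algebraMap K[X] (RatFunc K) (polyDer δ q) by
        linear_combination h]
    refine (Valuation.map_sub v _ _).trans (max_le ?_ ?_)
    · refine (infty_polyDer δ p).trans ?_
      rw [← hpq, map_mul]
      exact mul_le_of_le_one_left' hx
    · rw [map_mul]
      exact (mul_le_of_le_one_left' hx).trans (infty_polyDer δ _)
  exact le_of_mul_le_mul_right hmul (zero_lt_iff.2 hvq)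

variable {X : Scheme.{u}} {f : X ⟶ Spec (CommRingCat.of k)}

/-- A link is given by a family over the polynomial ring. -/
theorem exists_family [IsProper f] (A B : _root_.REq.Pts f K) (h : _root_.REq.ElemLink f K A B) :
    ∃ g : Spec (CommRingCat.of K[X]) ⟶ X, g ≫ f = Spec.map (CommRingCat.ofHom (algebraMap k K[X])) ∧
      Spec.map (CommRingCat.ofHom (Polynomial.evalRingHom (0 : K))) ≫ g = A.1 ∧
      Spec.map (CommRingCat.ofHom (Polynomial.evalRingHom (1 : K))) ≫ g = B.1 := by
  obtain ⟨U, φ, a, b, hφ, ha, hb, hA, hB⟩ := h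
  haveI : IsPreimmersion (𝟙 (_root_.REq.P1K K)) := inferInstance
  obtain ⟨D, G, hD, hG, hGφ⟩ := H75.REq.Extend.exists_extend f
    (fun y _ => H75.REq.Extend.valuationRing_stalk K y) (_root_.REq.P1K.toSpec K ≫ _root_.REq.specMap k K)
    (𝟙 (_root_.REq.P1K K)) U ⟨a (IsLocalRing.closedPoint K)⟩ φ (by rw [hφ, Category.id_comp])
  obtain rfl : D = ⊤ := top_le_iff.1 fun y _ => hD y
  let G' : _root_.REq.P1K K ⟶ X := (Scheme.topIso _).inv ≫ G
  have hG' : U.ι ≫ G' = φ := by
    refine Eq.trans ?_ hGφ
    rw [← Category.assoc]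
    congr 1
    rw [← cancel_mono (⊤ : (_root_.REq.P1K K).Opens).ι, IsOpenImmersion.lift_fac, Category.comp_id, Category.assoc,
      show (Scheme.topIso (_root_.REq.P1K K)).inv ≫ (⊤ : (_root_.REq.P1K K).Opens).ι = 𝟙 _ from
        (Scheme.topIso _).inv_hom_id, Category.comp_id]
  have hG'f : G' ≫ f = _root_.REq.P1K.toSpec K ≫ _root_.REq.specMap k K := by
    rw [Category.assoc, hG]
    exact Iso.inv_hom_id_assoc _ _
  let e := ProjSpace.BaseChange.overSpecIso 1 K
  have hP : ∀ c : Spec (CommRingCat.of K) ⟶ (U : Scheme.{u}), c ≫ U.ι ≫ _root_.REq.P1K.toSpec K = 𝟙 _ →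
      (c ≫ U.ι ≫ e.hom) ≫ CohB1.ProjSpace.toSpec 1 K = _root_.REq.specMap K K := by
    intro c hc
    rw [Category.assoc, Category.assoc]
    erw [ProjSpace.BaseChange.overSpecIso_hom_toSpec]
    refine hc.trans ?_
    rw [_root_.REq.specMap, Algebra.algebraMap_self]
    exact (Spec.map_id _).symm
  obtain ⟨l, hl, hl0, hl1⟩ := H75.REq.Proj.exists_line_hom (k := K) (K := K) (n := 1)
    (a ≫ U.ι ≫ e.hom) (b ≫ U.ι ≫ e.hom) (hP a ha) (hP b hb)
  let ev₁ : MvPolynomial (Fin 1) K →+* K[X] := MvPolynomial.eval₂Hom Polynomial.C fun _ => Polynomial.X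
  have hev : ∀ c : K, (Polynomial.evalRingHom c).comp ev₁ = MvPolynomial.eval fun _ => c := fun c =>
    MvPolynomial.ringHom_ext (fun r => by simp [ev₁]) (fun j => by simp [ev₁])
  refine ⟨Spec.map (CommRingCat.ofHom ev₁) ≫ l ≫ e.inv ≫ G', ?_, ?_, ?_⟩
  · rw [Category.assoc, Category.assoc, Category.assoc, hG'f, ← Category.assoc e.inv,
      show e.inv ≫ _root_.REq.P1K.toSpec K = CohB1.ProjSpace.toSpec 1 K from
        ProjSpace.BaseChange.overSpecIso_inv_toBase 1 K,
      ← Category.assoc l, hl, ← Category.assoc, ← Category.assoc, _root_.REq.specMap, _root_.REq.specMap,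
      ← Spec.map_comp, ← Spec.map_comp, ← Spec.map_comp,
      ← CommRingCat.ofHom_comp, ← CommRingCat.ofHom_comp, ← CommRingCat.ofHom_comp]
    congr 2
    rw [algebraMap_eq_comp]
    refine RingHom.ext fun c => ?_
    simp [ev₁]
  · rw [← Category.assoc, ← Spec.map_comp, ← CommRingCat.ofHom_comp, hev]
    erw [reassoc_of% hl0]
    rw [Iso.hom_inv_id_assoc, hG', hA]
  · rw [← Category.assoc, ← Spec.map_comp, ← CommRingCat.ofHom_comp, hev]
    erw [reassoc_of% hl1]
    rw [Iso.hom_inv_id_assoc, hG', hB]

variable {i : ℕ} {L : X.Modules} (S : Setup f i L) (m : ℕ)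
  (s : Γ(CohB1.tensorPow L m, (⊤ : X.Opens))) (δ : ℕ → Fin i → Derivation k K K)

/-- Directly linked points have the same values. -/
theorem isVal_iff_of_elemLink [IsProper f] (A B : _root_.REq.Pts f K) (h : _root_.REq.ElemLink f K A B) (v : K) :
    IsVal S m s A.1 δ v ↔ IsVal S m s B.1 δ v := by
  obtain ⟨g, hg, hg0, hg1⟩ := exists_family A B h
  choose DF hDF using fun l a =>
    exists_derivation_localization (R := RatFunc K) (nonZeroDivisors K[X]) (polyDer (δ l a))
  let gF : Spec (CommRingCat.of (RatFunc K)) ⟶ X := Spec.map (CommRingCat.ofHom (algebraMap K[X] (RatFunc K))) ≫ g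
  have hgF : gF ≫ f = Spec.map (CommRingCat.ofHom (algebraMap k (RatFunc K))) := by
    rw [Category.assoc, hg, ← Spec.map_comp, ← CommRingCat.ofHom_comp, ← IsScalarTower.algebraMap_eq]
  obtain ⟨vF, hvF⟩ := exists_isVal S m s gF hgF DF
  -- regularity on the affine line and specialisation
  have hev : ∀ c : K, (∀ l a, δ l a c = 0) →
      ∃ p : K[X], algebraMap K[X] (RatFunc K) p = vF ∧
        IsVal S m s (Spec.map (CommRingCat.ofHom (Polynomial.evalRingHom c)) ≫ g) δ (p.eval c) := by
    intro c hc
    let jc : K[X] →ₐ[k] K :=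
      { Polynomial.evalRingHom c with
        commutes' := fun r => by rw [algebraMap_eq_comp]; simp }
    exact exists_regular S m s g hg jc (fun l a => polyDer (δ l a)) DF δ hDF
      (fun l a p => eval_polyDer _ c (hc l a) p) hvF
  obtain ⟨p, hp, hp0⟩ := hev 0 fun l a => map_zero _
  obtain ⟨p', hp', hp1⟩ := hev 1 fun l a => Derivation.map_one_eq_zero _
  rw [IsFractionRing.injective K[X] (RatFunc K) (hp'.trans hp.symm)] at hp1
  -- regularity at infinity
  let V : ValuationSubring (RatFunc K) := (RatFunc.inftyValuation K).valuationSubring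
  have hVk : ∀ r : k, algebraMap k (RatFunc K) r ∈ V := fun r => by
    rw [IsScalarTower.algebraMap_apply k K[X] (RatFunc K)]
    show RatFunc.inftyValuation K _ ≤ 1
    by_cases hr : algebraMap k K r = 0
    · rw [algebraMap_eq_comp, RingHom.comp_apply, hr, map_zero, map_zero, map_zero]; exact zero_le
    · rw [RatFunc.inftyValuation_apply, algebraMap_eq_comp, RingHom.comp_apply,
        RatFunc.inftyValuation.polynomial _ (by simpa using hr), Polynomial.natDegree_C]
      simp
  letI : Algebra k V := ((algebraMap k (RatFunc K)).codRestrict V hVk).toAlgebra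
  haveI : IsScalarTower k V (RatFunc K) := IsScalarTower.of_algebraMap_eq fun _ => rfl
  have hDV : ∀ l a (x : V), DF l a x.1 ∈ V := fun l a x => infty_derivation (δ l a) _ (hDF l a) x.2
  let DV : ℕ → Fin i → Derivation k V V := fun l a =>
    { toFun := fun x => ⟨DF l a x.1, hDV l a x⟩
      map_add' := fun x y => Subtype.ext (map_add (DF l a) x.1 y.1)
      map_smul' := fun r x => Subtype.ext (by
        show DF l a ((r • x : V) : RatFunc K) = ((r • (⟨DF l a x.1, hDV l a x⟩ : V) : V) : RatFunc K)
        rw [Algebra.smul_def, Algebra.smul_def]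
        show DF l a (algebraMap k (RatFunc K) r * x.1) = algebraMap k (RatFunc K) r * DF l a x.1
        rw [← Algebra.smul_def, ← Algebra.smul_def]
        exact (DF l a).map_smul r x.1)
      map_one_eq_zero' := Subtype.ext (Derivation.map_one_eq_zero (DF l a))
      leibniz' := fun x y => Subtype.ext (Derivation.leibniz (DF l a) x.1 y.1) }
  let sq : ValuativeCommSq f :=
    { R := V
      K := RatFunc K
      i₁ := gF
      i₂ := Spec.map (CommRingCat.ofHom (algebraMap k V))
      commSq := ⟨by
        rw [hgF, ← Spec.map_comp, ← CommRingCat.ofHom_comp, ← IsScalarTower.algebraMap_eq]⟩ }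
  obtain ⟨⟨gV, hgV1, hgV2⟩⟩ := (show ValuativeCriterion.Existence f from by
    have h : UniversallyClosed f := inferInstance
    rw [UniversallyClosed.eq_valuativeCriterion] at h
    exact h.1) sq
  obtain ⟨w, hw, -⟩ := exists_regular S m s gV hgV2 (IsScalarTower.toAlgHom k V (RatFunc K)) DV DF DF
    (fun l a x => rfl) (fun l a x => rfl) (vF := vF) (by
      have : Spec.map (CommRingCat.ofHom (algebraMap V (RatFunc K))) ≫ gV = gF := hgV1
      rw [this]; exact hvF)
  have hdeg : p.natDegree = 0 := by
    by_cases hp0' : p = 0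
    · simp [hp0']
    · have hV : RatFunc.inftyValuation K (algebraMap K[X] (RatFunc K) p) ≤ 1 := by
        rw [hp, ← hw]; exact w.2
      rw [RatFunc.inftyValuation_apply, RatFunc.inftyValuation.polynomial _ hp0'] at hV
      have := WithZero.exp_le_exp.1 (hV.trans WithZero.exp_zero.ge)
      omega
  have hcst : p.eval 0 = p.eval 1 := by
    rw [Polynomial.eq_C_of_natDegree_eq_zero hdeg]; simp
  rw [hg0] at hp0
  rw [hg1, ← hcst] at hp1
  constructor <;> intro hv
  · rwa [IsVal.unique S m s (by exact A.2) hv hp0]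
  · rwa [IsVal.unique S m s (by exact B.2) hv hp1]

/-- R-equivalent points have the same values. -/
theorem isVal_iff_of_rEquiv [IsProper f] {A B : _root_.REq.Pts f K} (h : _root_.REq.REquiv f K A B) (v : K) :
    IsVal S m s A.1 δ v ↔ IsVal S m s B.1 δ v := by
  induction h with
  | rel A B h => exact isVal_iff_of_elemLink S m s δ A B h v
  | refl A => exact Iff.rfl
  | symm A B _ h => exact h.symm
  | trans A B C _ _ h h' => exact h.trans h'

end

end Groth.Agent.Lib.REqForms33
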