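import Groth.Agent.Lib.REqForms33.Line
import Mathlib.LinearAlgebra.ExteriorPower.Basis

/-!
# Almost R-trivial varieties have no tensor forms
-/

set_option autoImplicit false
set_option linter.style.haveILetI false
universe u

open CategoryTheory CategoryTheory.Limits AlgebraicGeometry Opposite TopologicalSpace
open scoped TensorProduct

namespace Groth.Agent.Lib.REqForms33

open Groth.Agent.Lib Groth.Agent.Lib.Modules
open Groth.Agent.Lib.TensorMod.Dual (rs rf rs_rs)
open Groth.Agent.Lib.Modules.AffineHom (exists_affine)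

noncomputable section

variable {k : Type u} [Field k] {X : Scheme.{u}} {f : X ⟶ Spec (CommRingCat.of k)}
  {i : ℕ} {L : X.Modules} (S : Setup f i L)

/-- The value only depends on the derivations in use. -/
theorem ev_congr {R : Type u} [CommRing R] [Algebra k R] (U : X.affineOpens) (χ : Chi f U.1 R) (m : ℕ)
    (δ δ' : ℕ → Fin i → Derivation k R R) (h : ∀ l < m, δ l = δ' l) (s : Γ(CohB1.tensorPow L m, U.1)) :
    ev S U χ m δ s = ev S U χ m δ' s := by
  induction m with
  | zero => rfl
  | succ m ih =>
    obtain ⟨z, rfl⟩ := (powEquiv S U m).surjective s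
    induction z using TensorProduct.induction_on with
    | zero => simp only [map_zero]
    | tmul x y => rw [ev_tmul, ev_tmul, h m (Nat.lt_succ_self m), ih (fun l hl => h l (Nat.lt_succ_of_lt hl))]
    | add a b ha hb => simp only [map_add, ha, hb]

/-- Sections killed by all the functionals of derivations vanish, given a dual family. -/
theorem eq_zero_of_ev {R : Type u} [CommRing R] [Algebra k R] (U : X.affineOpens) (χ : Chi f U.1 R)
    (hinj : Function.Injective χ.hom) {ι : Type*} [DecidableEq ι] (B : Module.Basis ι Γ(X, U.1) Γ(L, U.1))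
    (D : ι → Fin i → Derivation k R R) (hD : ∀ T T', form S U χ (D T) (B T') = if T' = T then 1 else 0)
    (m : ℕ) (z : Γ(CohB1.tensorPow L m, U.1)) (hz : ∀ δ, ev S U χ m δ z = 0) : z = 0 := by
  induction m with
  | zero => exact hinj ((hz fun _ _ => 0).trans (map_zero χ.hom).symm)
  | succ m ih =>
    obtain ⟨t, rfl⟩ := (powEquiv S U m).surjective z
    obtain ⟨c, rfl⟩ := TensorProduct.eq_repr_basis_right B t
    suffices hc : c = 0 by simp [hc]
    ext T
    refine ih (c T) fun δ => ?_
    have h := hz (Function.update δ m (D T))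
    rw [Finsupp.sum, map_sum, map_sum, Finset.sum_eq_single T] at h
    · rwa [ev_tmul, Function.update_self, hD, if_pos rfl, mul_one,
        ev_congr S U χ m _ δ fun l hl => Function.update_of_ne (Nat.ne_of_lt hl) _ _] at h
    · intro T' _ hT'
      rw [ev_tmul, Function.update_self, hD, if_neg hT', mul_zero]
    · intro hT
      rw [Finsupp.notMem_support_iff.1 hT, TensorProduct.zero_tmul, map_zero, map_zero]

/-- A section whose values at the generic point vanish is zero near any point. -/
theorem exists_affine_eq_zero [IsIntegral X] [Smooth f] [QuasiSeparated f] [Algebra k (X.functionField : Type u)]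
    (halg : ∀ c : k, algebraMap k X.functionField c = X.presheaf.germ ⊤ (genericPoint X) trivial (str f ⊤ c))
    (m : ℕ) (s : Γ(CohB1.tensorPow L m, (⊤ : X.Opens)))
    (hs : ∀ δ : ℕ → Fin i → Derivation k X.functionField X.functionField,
      IsVal S m s (show Spec (CommRingCat.of X.functionField) ⟶ X from X.fromSpecStalk (genericPoint X)) δ 0) (x : X) :
    ∃ V : X.Opens, x ∈ V ∧ rs (CohB1.tensorPow L m) le_top s = (0 : Γ(CohB1.tensorPow L m, V)) := by
  classical
  have hE : FlatMod.IsFinLocFree (Omega.sheaf f) :=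
    Kaehler.LocFree.isFinLocFree_of_smooth (Kaehler.DOmega.isUniversal_dOmega f)
  obtain ⟨U₀, n, hxU, ⟨iso⟩⟩ := hE x
  obtain ⟨e₀, he₀⟩ := TensorMod.Basis.exists_basis_of_iso iso
  obtain ⟨A, hA, hxA⟩ := exists_affine hxU
  refine ⟨A.1, hxA, ?_⟩
  have he := he₀.res hA
  let b : Module.Basis (Fin n) Γ(X, A.1) Γ(Omega.sheaf f, A.1) :=
    Module.Basis.ofEquivFun (LinearEquiv.ofBijective
      (Fintype.linearCombination Γ(X, A.1) fun j => rs (Omega.sheaf f) le_rfl (rs (Omega.sheaf f) hA (e₀ j))) (by
        rw [show ⇑(Fintype.linearCombination Γ(X, A.1) fun j => rs (Omega.sheaf f) le_rfl (rs (Omega.sheaf f) hA (e₀ j))) =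
          TensorMod.Basis.comb (fun j => rs (Omega.sheaf f) hA (e₀ j)) le_rfl from
          funext fun a => by simp only [Fintype.linearCombination_apply, TensorMod.Basis.comb]]
        exact he A.1 le_rfl)).symm
  haveI : Nonempty A.1 := ⟨⟨x, hxA⟩⟩
  haveI := functionField_isFractionRing_of_isAffineOpen X A.1 A.2
  have hη : genericPoint X ∈ A.1 := ((genericPoint_spec X).mem_open_set_iff A.1.2).2 ⟨x, trivial, hxA⟩
  letI : Algebra k Γ(X, A.1) := (str f A.1).toAlgebra
  let γ : Γ(X, A.1) →+* X.functionField := (X.presheaf.germ A.1 (genericPoint X) hη).hom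
  have hγalg : algebraMap Γ(X, A.1) X.functionField = γ := rfl
  have hγ : ∀ c, γ (str f A.1 c) = algebraMap k X.functionField c := fun c => by
    rw [halg, ← res_str f (le_top : A.1 ≤ ⊤)]
    exact TopCat.Presheaf.germ_res_apply X.presheaf (homOfLE le_top) _ hη _
  haveI : IsScalarTower k Γ(X, A.1) X.functionField :=
    IsScalarTower.of_algebraMap_eq fun c => (hγ c).symm
  let χ : Chi f A.1 X.functionField := ⟨γ, hγ⟩
  have hth : Through A.2 χ (X.fromSpecStalk (genericPoint X)) := A.2.fromSpecStalk_eq_fromSpecStalk hη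
  let δA : Fin n → Derivation k Γ(X, A.1) Γ(X, A.1) := fun a =>
    { toFun := fun y => b.coord a (OmegaSh.dSect f A.1 y)
      map_add' := fun y y' => (congrArg (b.coord a) (OmegaSh.dSect_add f A.1 y y')).trans (map_add _ _ _)
      map_smul' := fun c y => by
        show b.coord a (OmegaSh.dSect f A.1 (str f A.1 c * y)) = str f A.1 c * b.coord a (OmegaSh.dSect f A.1 y)
        rw [OmegaSh.dSect_mul, show OmegaSh.dSect f A.1 (str f A.1 c) = 0 from
          OmAff.dSect_appLE f ⊤ A.1 (le_pre f A.1) _, smul_zero, add_zero, map_smul, smul_eq_mul]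
      map_one_eq_zero' := by
        show b.coord a (OmegaSh.dSect f A.1 1) = 0
        rw [← map_one (str f A.1), show OmegaSh.dSect f A.1 (str f A.1 1) = 0 from
          OmAff.dSect_appLE f ⊤ A.1 (le_pre f A.1) _, map_zero]
      leibniz' := fun y y' => by
        show b.coord a (OmegaSh.dSect f A.1 (y * y')) = _
        rw [OmegaSh.dSect_mul, map_add, map_smul, map_smul]
        rfl }
  choose DF hDF using fun a => exists_derivation_localization (R := X.functionField) (nonZeroDivisors Γ(X, A.1)) (δA a)
  have hθ : ∀ a y, theta A.2 χ (DF a) y = γ (b.coord a y) := fun a y => by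
    let θ' : Γ(Omega.sheaf f, A.1) →ₛₗ[χ.hom] X.functionField :=
      { toFun := fun y => γ (b.coord a y)
        map_add' := fun y y' => by rw [map_add, map_add]
        map_smul' := fun c y => by rw [map_smul, smul_eq_mul, map_mul]; rfl }
    refine theta_ext A.2 χ _ θ' (fun y => ?_) y
    exact (theta_d A.2 χ (DF a) y).trans (hDF a y)
  let B : Module.Basis (Set.powersetCard (Fin n) i) Γ(X, A.1) Γ(L, A.1) :=
    (b.exteriorPower i).map (S.equiv A).symm
  let D : Set.powersetCard (Fin n) i → Fin i → Derivation k X.functionField X.functionField :=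
    fun T a => DF (Set.powersetCard.ofFinEmbEquiv.symm T a)
  refine eq_zero_of_ev S A χ ?_ B D (fun T T' => ?_) m _ fun δ => hs δ A χ hth
  · rw [show χ.hom = algebraMap Γ(X, A.1) X.functionField from rfl]
    exact IsFractionRing.injective _ _
  · show wedge A.2 χ (D T) (S.equiv A (((b.exteriorPower i).map (S.equiv A).symm) T')) = _
    rw [Module.Basis.map_apply, LinearEquiv.apply_symm_apply, exteriorPower.basis_apply, exteriorPower.ιMulti_family]
    refine (wedge_ιMulti A.2 χ (D T) _).trans ?_
    have hmat : ∀ p q, valMat A.2 χ (D T) (b ∘ Set.powersetCard.ofFinEmbEquiv.symm T') p q =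
        if Set.powersetCard.ofFinEmbEquiv.symm T' p = Set.powersetCard.ofFinEmbEquiv.symm T q then 1 else 0 := by
      intro p q
      refine (hθ _ _).trans ?_
      rw [Function.comp_apply, Module.Basis.coord_apply, Module.Basis.repr_self, Finsupp.single_apply]
      split_ifs <;> simp
    by_cases hTT : T' = T
    · subst hTT
      rw [if_pos rfl, show valMat A.2 χ (D T') (b ∘ Set.powersetCard.ofFinEmbEquiv.symm T') = 1 from
        Matrix.ext fun p q => by
          rw [hmat, Matrix.one_apply]
          simp only [EmbeddingLike.apply_eq_iff_eq], Matrix.det_one]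
    · rw [if_neg hTT]
      obtain ⟨a, ha, ha'⟩ : ∃ a, a ∈ T'.1 ∧ a ∉ T.1 := by
        by_contra hc
        push Not at hc
        exact hTT (Subtype.ext (Finset.eq_of_subset_of_card_le hc (by
          rw [Set.powersetCard.card_eq, Set.powersetCard.card_eq])))
      obtain ⟨p, rfl⟩ := Set.powersetCard.mem_range_ofFinEmbEquiv_symm_iff_mem T' a |>.2 ha
      refine Matrix.det_eq_zero_of_row_eq_zero p fun q => ?_
      rw [hmat, if_neg]
      exact fun h => ha' (h ▸ (Set.powersetCard.mem_range_ofFinEmbEquiv_symm_iff_mem T _).1 ⟨q, rfl⟩)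

include S in
/-- Almost R-trivial smooth proper varieties have no tensor forms. -/
theorem eq_zero_of_isAlmostRTrivial [IsIntegral X] [IsProper f] [Smooth f] (hR : _root_.REq.IsAlmostRTrivial f)
    (hi : 0 < i) (m : ℕ) (s : Γ(CohB1.tensorPow L (m + 1), (⊤ : X.Opens))) : s = 0 := by
  obtain ⟨U, hd, hU⟩ := hR
  haveI : Nonempty X := inferInstance
  have hηU : genericPoint X ∈ U := by
    obtain ⟨y, hy⟩ := hd.nonempty
    exact ((genericPoint_spec X).mem_open_set_iff U.2).2 ⟨y, trivial, hy⟩
  letI : Algebra k X.functionField := ((X.presheaf.germ ⊤ (genericPoint X) trivial).hom.comp (str f ⊤)).toAlgebra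
  let η : Spec (CommRingCat.of X.functionField) ⟶ X := X.fromSpecStalk (genericPoint X)
  have hη : η ≫ f = Spec.map (CommRingCat.ofHom (algebraMap k X.functionField)) := by
    obtain ⟨A, -, hA⟩ := exists_affine (show genericPoint X ∈ (⊤ : X.Opens) from trivial)
    show X.fromSpecStalk (genericPoint X) ≫ f = _
    rw [← A.2.fromSpecStalk_eq_fromSpecStalk hA]
    show (Spec.map (X.presheaf.germ A.1 _ hA) ≫ A.2.fromSpec) ≫ f = _
    refine (Category.assoc _ _ _).trans ((congrArg (Spec.map _ ≫ ·) (fromSpec_comp (f := f) A.2)).trans ?_)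
    rw [← Spec.map_comp]
    congr 1
    ext c
    show X.presheaf.germ A.1 _ hA (str f A.1 c) = X.presheaf.germ ⊤ _ trivial (str f ⊤ c)
    rw [← res_str f (le_top : A.1 ≤ ⊤)]
    exact TopCat.Presheaf.germ_res_apply X.presheaf (homOfLE le_top) _ hA _
  obtain ⟨A₀, hA₀⟩ := (hU k).1
  let P : _root_.REq.Pts f X.functionField := ⟨η, hη⟩
  let P₀ : _root_.REq.Pts f X.functionField :=
    ⟨_root_.REq.specMap k X.functionField ≫ A₀.1, by
      rw [Category.assoc, A₀.2, _root_.REq.specMap, _root_.REq.specMap, ← Spec.map_comp, ← CommRingCat.ofHom_comp,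
        Algebra.algebraMap_self, RingHom.comp_id]⟩
  have hlink := (hU X.functionField).2 P P₀
    (by
      rintro _ ⟨z, rfl⟩
      rw [show z = IsLocalRing.closedPoint X.functionField from Subsingleton.elim (α := PrimeSpectrum X.functionField) _ _]
      show X.fromSpecStalk (genericPoint X) (IsLocalRing.closedPoint (X.presheaf.stalk (genericPoint X))) ∈ U
      rw [Scheme.fromSpecStalk_closedPoint]
      exact hηU)
    (by
      rintro _ ⟨z, rfl⟩
      exact hA₀ ⟨_root_.REq.specMap k X.functionField z, rfl⟩)
  have hzero : ∀ δ : ℕ → Fin i → Derivation k X.functionField X.functionField,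
      IsVal S (m + 1) s η δ 0 := fun δ => by
    refine (isVal_iff_of_rEquiv S (m + 1) s δ hlink 0).2 ?_
    obtain ⟨v, hv⟩ := exists_isVal S (m + 1) s P₀.1 P₀.2 δ
    obtain ⟨W, -, χ, hχ⟩ := exists_through_closed (f := f) A₀.1 A₀.2 (W := ⊤) trivial
    have h := hv W _ (hχ.map (Algebra.ofId k X.functionField))
    rw [ev_map S W χ (Algebra.ofId k X.functionField) (m + 1) (fun _ _ => 0) δ (fun l a r => by
      rw [Algebra.ofId_apply, Derivation.map_algebraMap, Derivation.zero_apply, map_zero]),
      ev_eq_zero_of_derivation_zero S W χ hi, map_zero] at h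
    exact h ▸ hv
  refine TensorSec.section_ext _ s 0 fun x _ => ?_
  obtain ⟨V, hxV, hV⟩ := exists_affine_eq_zero S (fun c => rfl) (m + 1) s hzero x
  exact ⟨V, le_top, hxV, hV.trans (map_zero _).symm⟩

end

end Groth.Agent.Lib.REqForms33
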