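import Groth.Agent.Lib.REqForms33.Eval
import Mathlib.Algebra.TrivSqZeroExt.Basic
import Mathlib.RingTheory.Localization.Away.Basic
import Mathlib.RingTheory.Localization.FractionRing

/-!
# Values of forms at points, and their regularity along a scheme-theoretic family
-/

set_option autoImplicit false
set_option linter.style.haveILetI false
universe u

open CategoryTheory CategoryTheory.Limits AlgebraicGeometry Opposite TopologicalSpace

namespace Groth.Agent.Lib.REqForms33

open Groth.Agent.Lib Groth.Agent.Lib.Modules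
open Groth.Agent.Lib.TensorMod.Dual (rs rf rs_smul rs_rs)
open Groth.Agent.Lib.Modules.AffineHom (exists_affine)

noncomputable section

section Loc

variable {k : Type u} [CommRing k] {B R T : Type u} [CommRing B] [Algebra k B] [CommRing R] [Algebra k R]
  [Algebra B R] [IsScalarTower k B R] [CommRing T] [Algebra k T] (M : Submonoid B) [IsLocalization M R]

include M in
/-- Derivations extend to localisations. -/
theorem exists_derivation_localization (D : Derivation k B B) :
    ∃ D' : Derivation k R R, ∀ b, D' (algebraMap B R b) = algebraMap B R (D b) := by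
  let φ : B →+* TrivSqZeroExt R R :=
    { toFun := fun b => TrivSqZeroExt.inl (algebraMap B R b) + TrivSqZeroExt.inr (algebraMap B R (D b))
      map_one' := by simp
      map_zero' := by simp
      map_add' := fun a b => by ext <;> simp [add_add_add_comm]
      map_mul' := fun a b => by
        ext
        · simp
        · simp [TrivSqZeroExt.snd_mul, mul_comm, add_comm] }
  have hunit : ∀ y : M, IsUnit (φ y) := fun y => by
    rw [TrivSqZeroExt.isUnit_iff_isUnit_fst]
    simpa [φ] using IsLocalization.map_units R y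
  let g : R →+* TrivSqZeroExt R R := IsLocalization.lift hunit
  have hg : ∀ b, g (algebraMap B R b) = φ b := fun b => IsLocalization.lift_eq hunit b
  have hfst : ∀ x, (g x).fst = x := by
    intro x
    have := congr($(IsLocalization.ringHom_ext (R := B) M (j := (TrivSqZeroExt.fstHom R R R).toRingHom.comp g)
      (k := RingHom.id R) (RingHom.ext fun b => by simp [hg, φ])) x)
    simpa using this
  refine ⟨{ toFun := fun x => (g x).snd
            map_add' := fun x y => by simp
            map_smul' := fun c x => ?_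
            map_one_eq_zero' := by simp
            leibniz' := fun x y => ?_ }, fun b => by show (g _).snd = _; simp [hg, φ]⟩
  · simp only [Algebra.smul_def, RingHom.id_apply, map_mul, TrivSqZeroExt.snd_mul, hfst]
    rw [IsScalarTower.algebraMap_apply k B R, hg]
    simp [φ]
  · show (g (x * y)).snd = x • (g y).snd + y • (g x).snd
    rw [map_mul, TrivSqZeroExt.snd_mul, hfst, hfst, op_smul_eq_smul]

include M in
/-- Compatibility of derivations spreads to localisations. -/
theorem compat_localization (ψ : R →ₐ[k] T) (DR : Derivation k R R) (DT : Derivation k T T)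
    (h : ∀ b, DT (ψ (algebraMap B R b)) = ψ (DR (algebraMap B R b))) (x : R) : DT (ψ x) = ψ (DR x) := by
  obtain ⟨⟨b, s⟩, hs⟩ := IsLocalization.surj M x
  simp only at hs
  have h1 := congrArg DT (congrArg ψ hs)
  have h2 := congrArg ψ (congrArg DR hs)
  rw [map_mul, Derivation.leibniz, smul_eq_mul, smul_eq_mul, h, h] at h1
  rw [Derivation.leibniz, smul_eq_mul, smul_eq_mul, map_add, map_mul, map_mul] at h2
  have hu : IsUnit (ψ (algebraMap B R (s : B))) := (IsLocalization.map_units R s).map ψ
  refine hu.mul_left_cancel ?_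
  linear_combination h1 - h2

end Loc

variable {k : Type u} [Field k] {X : Scheme.{u}} {f : X ⟶ Spec (CommRingCat.of k)}

/-- `χ` describes the point `g` in the affine open `U`. -/
def Through {U : X.Opens} (hU : IsAffineOpen U) {R : Type u} [CommRing R] [Algebra k R]
    (χ : Chi f U R) (g : Spec (CommRingCat.of R) ⟶ X) : Prop :=
  Spec.map (CommRingCat.ofHom χ.hom) ≫ hU.fromSpec = g

variable {R R' : Type u} [CommRing R] [Algebra k R] [CommRing R'] [Algebra k R']

theorem Through.map {U : X.Opens} {hU : IsAffineOpen U} {χ : Chi f U R} {g : Spec (CommRingCat.of R) ⟶ X}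
    (h : Through hU χ g) (j : R →ₐ[k] R') :
    Through hU (χ.map j) (Spec.map (CommRingCat.ofHom j.toRingHom) ≫ g) := by
  show Spec.map (CommRingCat.ofHom (j.toRingHom.comp χ.hom)) ≫ _ = _
  rw [CommRingCat.ofHom_comp, Spec.map_comp, Category.assoc, h]

theorem Through.res {U V : X.Opens} (hU : IsAffineOpen U) {hV : IsAffineOpen V} {χ : Chi f V R}
    {g : Spec (CommRingCat.of R) ⟶ X} (h : Through hV χ g) (hle : V ≤ U) : Through hU (χ.res hle) g := by
  show Spec.map (X.presheaf.map (homOfLE hle).op ≫ CommRingCat.ofHom χ.hom) ≫ hU.fromSpec = g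
  rw [Spec.map_comp, Category.assoc, hU.map_fromSpec hV]
  exact h

theorem Chi.eq_of_through {U : X.Opens} {hU : IsAffineOpen U} {χ χ' : Chi f U R}
    {g : Spec (CommRingCat.of R) ⟶ X} (h : Through hU χ g) (h' : Through hU χ' g) : χ = χ' := by
  have := Spec.map_injective ((cancel_mono hU.fromSpec).1 (h.trans h'.symm))
  obtain ⟨a, _⟩ := χ
  obtain ⟨b, _⟩ := χ'
  have : a = b := congrArg CommRingCat.Hom.hom this
  subst this
  rfl

theorem fromSpec_comp {U : X.Opens} (hU : IsAffineOpen U) :
    hU.fromSpec ≫ f = Spec.map (CommRingCat.ofHom (str f U)) := by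
  rw [← IsAffineOpen.SpecMap_appLE_fromSpec f (isAffineOpen_top _) hU (le_pre f U), IsAffineOpen.fromSpec_top,
    Scheme.isoSpec_Spec_inv, ← Spec.map_comp]
  rfl

theorem exists_through {U : X.Opens} (hU : IsAffineOpen U) (g : Spec (CommRingCat.of R) ⟶ X)
    (hg : g ≫ f = Spec.map (CommRingCat.ofHom (algebraMap k R))) (hr : Set.range g ⊆ (U : Set X)) :
    ∃ χ : Chi f U R, Through hU χ g := by
  obtain ⟨φ, hφ⟩ := Spec.homEquiv.symm.surjective
    (IsOpenImmersion.lift hU.fromSpec g (by rw [hU.range_fromSpec]; exact hr))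
  have hfac : Spec.map φ ≫ hU.fromSpec = g :=
    (congrArg (· ≫ hU.fromSpec) hφ).trans (IsOpenImmersion.lift_fac _ _ _)
  refine ⟨⟨φ.hom, fun c => ?_⟩, hfac⟩
  rw [← hfac, Category.assoc, fromSpec_comp, ← Spec.map_comp] at hg
  exact congr($(Spec.map_injective hg) c)

theorem exists_through_closed {F : Type u} [Field F] [Algebra k F] (g : Spec (CommRingCat.of F) ⟶ X)
    (hg : g ≫ f = Spec.map (CommRingCat.ofHom (algebraMap k F))) {W : X.Opens}
    (hW : g (IsLocalRing.closedPoint F) ∈ W) :
    ∃ (U : X.affineOpens) (_ : U.1 ≤ W) (χ : Chi f U.1 F), Through U.2 χ g := by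
  obtain ⟨U, hU, hxU⟩ := exists_affine hW
  obtain ⟨χ, hχ⟩ := exists_through U.2 g hg (by
    rintro _ ⟨z, rfl⟩
    rw [show z = IsLocalRing.closedPoint F from Subsingleton.elim (α := PrimeSpectrum F) _ _]
    exact hxU)
  exact ⟨U, hU, χ, hχ⟩

theorem mem_of_through {F : Type u} [Field F] [Algebra k F] {U : X.Opens} {hU : IsAffineOpen U}
    {χ : Chi f U F} {g : Spec (CommRingCat.of F) ⟶ X} (h : Through hU χ g) :
    g (IsLocalRing.closedPoint F) ∈ U := by
  rw [← h]
  erw [Scheme.Hom.comp_apply]
  exact hU.range_fromSpec.le ⟨_, rfl⟩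

variable {i : ℕ} {L : X.Modules} (S : Setup f i L) (m : ℕ)
  (s : Γ(CohB1.tensorPow L m, (⊤ : X.Opens)))

/-- `v` is the value of `s` at `g` along the derivations. -/
def IsVal (g : Spec (CommRingCat.of R) ⟶ X) (δ : ℕ → Fin i → Derivation k R R) (v : R) : Prop :=
  ∀ (U : X.affineOpens) (χ : Chi f U.1 R), Through U.2 χ g →
    ev S U χ m δ (rs (CohB1.tensorPow L m) le_top s) = v

theorem exists_isVal {F : Type u} [Field F] [Algebra k F] (g : Spec (CommRingCat.of F) ⟶ X)
    (hg : g ≫ f = Spec.map (CommRingCat.ofHom (algebraMap k F))) (δ : ℕ → Fin i → Derivation k F F) :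
    ∃ v, IsVal S m s g δ v := by
  obtain ⟨U₀, -, χ₀, h₀⟩ := exists_through_closed (f := f) g hg (W := ⊤) trivial
  refine ⟨ev S U₀ χ₀ m δ (rs _ le_top s), fun U χ h => ?_⟩
  obtain ⟨W, hW, χW, hW'⟩ := exists_through_closed (f := f) g hg (W := U.1 ⊓ U₀.1)
    ⟨mem_of_through h, mem_of_through h₀⟩
  rw [Chi.eq_of_through h (hW'.res U.2 (hW.trans inf_le_left)),
    Chi.eq_of_through h₀ (hW'.res U₀.2 (hW.trans inf_le_right)),
    ev_res, ev_res, rs_rs, rs_rs]

theorem IsVal.unique {F : Type u} [Field F] [Algebra k F] {g : Spec (CommRingCat.of F) ⟶ X}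
    (hg : g ≫ f = Spec.map (CommRingCat.ofHom (algebraMap k F))) {δ : ℕ → Fin i → Derivation k F F}
    {v v' : F} (h : IsVal S m s g δ v) (h' : IsVal S m s g δ v') : v = v' := by
  obtain ⟨U, -, χ, hχ⟩ := exists_through_closed (f := f) g hg (W := ⊤) trivial
  exact (h U χ hχ).symm.trans (h' U χ hχ)

/-- Regularity: along a family over a domain the generic value is regular and specialises. -/
theorem exists_regular {B F T : Type u} [CommRing B] [IsDomain B] [Algebra k B] [Field F] [Algebra k F]
    [Algebra B F] [IsScalarTower k B F] [IsFractionRing B F] [Field T] [Algebra k T]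
    (g : Spec (CommRingCat.of B) ⟶ X) (hg : g ≫ f = Spec.map (CommRingCat.ofHom (algebraMap k B)))
    (jT : B →ₐ[k] T)
    (DB : ℕ → Fin i → Derivation k B B) (DF : ℕ → Fin i → Derivation k F F)
    (DT : ℕ → Fin i → Derivation k T T)
    (hF : ∀ l a b, DF l a (algebraMap B F b) = algebraMap B F (DB l a b))
    (hT : ∀ l a b, DT l a (jT b) = jT (DB l a b))
    {vF : F} (hvF : IsVal S m s (Spec.map (CommRingCat.ofHom (algebraMap B F)) ≫ g) DF vF) :
    ∃ b, algebraMap B F b = vF ∧ IsVal S m s (Spec.map (CommRingCat.ofHom jT.toRingHom) ≫ g) DT (jT b) := by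
  have hgT : (Spec.map (CommRingCat.ofHom jT.toRingHom) ≫ g) ≫ f =
      Spec.map (CommRingCat.ofHom (algebraMap k T)) := by
    rw [Category.assoc, hg, ← Spec.map_comp, ← CommRingCat.ofHom_comp]
    congr 2
    exact RingHom.ext jT.commutes
  obtain ⟨vT, hvT⟩ := exists_isVal S m s _ hgT DT
  have key : ∀ p : PrimeSpectrum B, ∃ (r : B) (n : ℕ) (c : B), r ∉ p.asIdeal ∧
      algebraMap B F (r ^ n) * vF = algebraMap B F c ∧ (jT r ≠ 0 → jT (r ^ n) * vT = jT c) := by
    intro p
    obtain ⟨U, -, hpU⟩ := exists_affine (show g p ∈ (⊤ : X.Opens) from trivial)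
    obtain ⟨_, ⟨_, ⟨r, rfl⟩, rfl⟩, hpr, hrU⟩ :=
      (PrimeSpectrum.isBasis_basic_opens (R := B)).exists_subset_of_mem_open hpU (g ⁻¹ᵁ U.1).2
    let Rr := Localization.Away r
    let gr : Spec (CommRingCat.of Rr) ⟶ X := Spec.map (CommRingCat.ofHom (algebraMap B Rr)) ≫ g
    have hgr : gr ≫ f = Spec.map (CommRingCat.ofHom (algebraMap k Rr)) := by
      rw [Category.assoc, hg, ← Spec.map_comp, ← CommRingCat.ofHom_comp, ← IsScalarTower.algebraMap_eq]
    obtain ⟨χ, hχ⟩ := exists_through U.2 gr hgr (by
      rintro _ ⟨z, rfl⟩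
      refine hrU ?_
      exact (PrimeSpectrum.localization_away_comap_range Rr r).le ⟨z, rfl⟩)
    choose DR hDR using fun l a => exists_derivation_localization (R := Rr) (Submonoid.powers r) (DB l a)
    let v := ev S U χ m DR (rs _ le_top s)
    obtain ⟨⟨c, ⟨_, n, rfl⟩⟩, hc⟩ := IsLocalization.surj (Submonoid.powers r) v
    simp only at hc
    have image : ∀ {Q : Type u} [Field Q] [Algebra k Q] (j : B →ₐ[k] Q) (D : ℕ → Fin i → Derivation k Q Q)
        (_ : ∀ l a b, D l a (j b) = j (DB l a b)) (w : Q),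
        IsVal S m s (Spec.map (CommRingCat.ofHom j.toRingHom) ≫ g) D w → j r ≠ 0 → j (r ^ n) * w = j c := by
      intro Q _ _ j D hD w hw hjr
      let ψ : Rr →ₐ[k] Q :=
        { IsLocalization.Away.lift (S := Rr) r (g := j.toRingHom) (isUnit_iff_ne_zero.2 hjr) with
          commutes' := fun a => by
            rw [IsScalarTower.algebraMap_apply k B Rr]
            exact (IsLocalization.Away.lift_eq r (isUnit_iff_ne_zero.2 hjr) _).trans (j.commutes a) }
      have hψ : ∀ b, ψ (algebraMap B Rr b) = j b := fun b => IsLocalization.Away.lift_eq r (isUnit_iff_ne_zero.2 hjr) b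
      have hcompat : ∀ l a x, D l a (ψ x) = ψ (DR l a x) := fun l a =>
        compat_localization (Submonoid.powers r) ψ _ _ fun b => by rw [hψ, hD, hDR, hψ]
      have hth : Through U.2 (χ.map ψ) (Spec.map (CommRingCat.ofHom j.toRingHom) ≫ g) := by
        have := hχ.map ψ
        rw [← Category.assoc, ← Spec.map_comp, ← CommRingCat.ofHom_comp,
          show ψ.toRingHom.comp (algebraMap B Rr) = j.toRingHom from RingHom.ext hψ] at this
        exact this
      have hval := hw U _ hth
      rw [ev_map S U χ ψ m DR D hcompat] at hval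
      rw [← hval, ← hψ, ← hψ, ← map_mul, mul_comm]
      exact congrArg ψ hc
    have hr0 : r ≠ 0 := fun h => hpr (h ▸ p.asIdeal.zero_mem)
    refine ⟨r, n, c, hpr, ?_, image jT DT hT vT hvT⟩
    refine image (IsScalarTower.toAlgHom k B F) DF hF vF hvF fun h => hr0 ?_
    exact (IsFractionRing.to_map_eq_zero_iff (K := F)).1 h
  let I : Ideal B := (Submodule.comap (LinearMap.toSpanSingleton B F vF) (LinearMap.range (Algebra.linearMap B F)))
  have hI : (1 : B) ∈ I := by
    by_contra hne
    obtain ⟨M, hM, hIM⟩ := Ideal.exists_le_maximal I ((Ideal.ne_top_iff_one I).2 hne)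
    obtain ⟨r, n, c, hr, hc, -⟩ := key ⟨M, hM.isPrime⟩
    exact hr (hM.isPrime.mem_of_pow_mem n (hIM ⟨c, by simp [Algebra.smul_def, ← hc]⟩))
  obtain ⟨b, hb⟩ := hI
  have hb' : algebraMap B F b = vF := by simpa using hb
  refine ⟨b, hb', ?_⟩
  obtain ⟨r, n, c, hr, hc, hc'⟩ := key ⟨RingHom.ker jT.toRingHom, RingHom.ker_isPrime _⟩
  have hjr : jT r ≠ 0 := fun h => hr h
  rw [← hb', ← map_mul] at hc
  have e := congrArg jT (IsFractionRing.injective B F hc)
  rw [map_mul, ← hc' hjr] at e
  rwa [mul_left_cancel₀ (by rw [map_pow]; exact pow_ne_zero n hjr) e]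

end

end Groth.Agent.Lib.REqForms33
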